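import Cfsg.Agent.H800.IFx.Bor
import Cfsg.Agent.H800.IFx.Cnt
import Cfsg.Agent.H999.IF.EngB
import Cfsg.Agent.TwoFusion.PSLTwoGood
import Cfsg.Agent.S0799

/-!
# S5719: the row `PSL₂(q)` (helper800)

`kill_psl_two` : no counterexample to the statement on involution fixity has socle `PSL₂(q)`, `q ≥ 4`.

* the point stabiliser `A` in the socle is a subgroup of Dickson's list (S0799);
* cyclic: `not_abel`; a subgroup of a Borel subgroup: `kill_borel`;
* otherwise an involution `t ∈ A` with `|C_T(t)| ≥ q - 1` and small `|C_A(t)|` fixes too many points.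
-/

set_option autoImplicit false
set_option linter.unusedSectionVars false

namespace Cfsg.Agent.H800.IFx

open Matrix Subgroup Cfsg.Agent.H209.Fxy
open Cfsg.Agent.LieClassical.SLTwoUnipotent
open Cfsg.Agent.ClassicalGeometry.AutPSL.Root

/-! ### Small groups -/

theorem dihedral_comm {k : ℕ} (hk : k = 1 ∨ k = 2) (a b : DihedralGroup k) : a * b = b * a := by
  rcases hk with rfl | rfl
  · rcases a with i | i <;> rcases b with j | j <;> revert i j <;> decide
  · rcases a with i | i <;> rcases b with j | j <;> revert i j <;> decide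

theorem dihedral_cent {k : ℕ} (hk : 0 < k) :
    Nat.card (Subgroup.centralizer ({DihedralGroup.sr 0} : Set (DihedralGroup k))) ≤ 4 := by
  classical
  have hk0 : NeZero k := ⟨hk.ne'⟩
  have h1 : Nat.card {i : ZMod k // 2 • i = 0} ≤ 2 := by
    rw [Nat.card_eq_fintype_card, Fintype.card_subtype]
    exact IsAddCyclic.card_nsmul_eq_zero_le (by norm_num)
  have h2 : Nat.card ({i : ZMod k // 2 • i = 0} ⊕ {i : ZMod k // 2 • i = 0}) ≤ 4 := by
    rw [Nat.card_sum]
    omega
  refine le_trans ?_ h2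
  have h3 : ∀ i : ZMod k, DihedralGroup.r i * DihedralGroup.sr 0 = DihedralGroup.sr 0 * DihedralGroup.r i →
      2 • i = 0 := by
    intro i hi
    rw [DihedralGroup.r_mul_sr, DihedralGroup.sr_mul_r] at hi
    have h4 : (0 : ZMod k) - i = 0 + i := DihedralGroup.sr.inj hi
    rw [two_nsmul]
    linear_combination -h4
  have h3' : ∀ i : ZMod k, DihedralGroup.sr i * DihedralGroup.sr 0 = DihedralGroup.sr 0 * DihedralGroup.sr i →
      2 • i = 0 := by
    intro i hi
    rw [DihedralGroup.sr_mul_sr, DihedralGroup.sr_mul_sr] at hi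
    have h4 : (0 : ZMod k) - i = i - 0 := DihedralGroup.r.inj hi
    rw [two_nsmul]
    linear_combination -h4
  refine Nat.card_le_card_of_injective (fun x : Subgroup.centralizer ({DihedralGroup.sr 0} : Set (DihedralGroup k)) =>
    match x with
    | ⟨DihedralGroup.r i, hx⟩ => Sum.inl ⟨i, h3 i (Subgroup.mem_centralizer_singleton_iff.1 hx)⟩
    | ⟨DihedralGroup.sr i, hx⟩ => Sum.inr ⟨i, h3' i (Subgroup.mem_centralizer_singleton_iff.1 hx)⟩) ?_
  rintro ⟨i | i, hi⟩ ⟨j | j, hj⟩ hij
  · have h5 := congrArg Subtype.val (Sum.inl.inj hij)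
    exact Subtype.ext (congrArg DihedralGroup.r h5)
  · exact absurd hij Sum.inl_ne_inr
  · exact absurd hij Sum.inr_ne_inl
  · have h5 := congrArg Subtype.val (Sum.inr.inj hij)
    exact Subtype.ext (congrArg DihedralGroup.sr h5)

theorem cent_s4 : ∃ s : Equiv.Perm (Fin 4), orderOf s = 2 ∧
    Nat.card (Subgroup.centralizer ({s} : Set (Equiv.Perm (Fin 4)))) ≤ 4 := by
  refine ⟨Equiv.swap 0 1, orderOf_eq_prime (by decide) (by decide), ?_⟩
  have h1 : Nat.card (Subgroup.centralizer ({Equiv.swap 0 1} : Set (Equiv.Perm (Fin 4)))) =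
      Nat.card {x : Equiv.Perm (Fin 4) // x * Equiv.swap 0 1 = Equiv.swap 0 1 * x} :=
    Nat.card_congr (Equiv.subtypeEquivRight fun x => Subgroup.mem_centralizer_singleton_iff)
  rw [h1, Nat.card_eq_fintype_card]
  decide +kernel

/-- `(01)(23)` -/
def tA4 : alternatingGroup (Fin 4) :=
  ⟨Equiv.swap 0 1 * Equiv.swap 2 3, Equiv.Perm.mem_alternatingGroup.2 (by decide)⟩

theorem cent_a4 : ∃ s : alternatingGroup (Fin 4), orderOf s = 2 ∧
    Nat.card (Subgroup.centralizer ({s} : Set (alternatingGroup (Fin 4)))) ≤ 4 := by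
  refine ⟨tA4, orderOf_eq_prime (by decide) (by decide), ?_⟩
  have h1 : Nat.card (Subgroup.centralizer ({tA4} :
      Set (alternatingGroup (Fin 4)))) =
      Nat.card {x : alternatingGroup (Fin 4) // x * tA4 =
        tA4 * x} :=
    Nat.card_congr (Equiv.subtypeEquivRight fun x => Subgroup.mem_centralizer_singleton_iff)
  rw [h1, Nat.card_eq_fintype_card]
  decide +kernel

/-- `(01)(23)` -/
def tA5 : alternatingGroup (Fin 5) :=
  ⟨Equiv.swap 0 1 * Equiv.swap 2 3, Equiv.Perm.mem_alternatingGroup.2 (by decide)⟩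

theorem cent_a5 : ∃ s : alternatingGroup (Fin 5), orderOf s = 2 ∧
    Nat.card (Subgroup.centralizer ({s} : Set (alternatingGroup (Fin 5)))) ≤ 4 := by
  refine ⟨tA5, orderOf_eq_prime (by decide) (by decide), ?_⟩
  have h1 : Nat.card (Subgroup.centralizer ({tA5} :
      Set (alternatingGroup (Fin 5)))) =
      Nat.card {x : alternatingGroup (Fin 5) // x * tA5 =
        tA5 * x} :=
    Nat.card_congr (Equiv.subtypeEquivRight fun x => Subgroup.mem_centralizer_singleton_iff)
  rw [h1, Nat.card_eq_fintype_card]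
  decide +kernel

section

variable {F : Type*} [Field F]

local notation "S2" => Matrix.SpecialLinearGroup (Fin 2) F
local notation "P2" => Matrix.ProjectiveSpecialLinearGroup (Fin 2) F

variable [Fintype F]

/-- centralizers of involutions of `PSL₂(q)` have order at least `q - 1` -/
theorem card_cent_ge {t : P2} (ht : orderOf t = 2) :
    Fintype.card F - 1 ≤ Nat.card (Subgroup.centralizer ({t} : Set P2)) := by
  rcases Nat.even_or_odd (Fintype.card F) with hev | hodd
  · have h2 : (2 : F) = 0 := by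
      by_contra h
      exact (Nat.not_even_iff_odd.2 ((Cfsg.Agent.ClassicalGeometry.PSL2Basic.two_ne_zero_iff_odd F).1 h)) hev
    have hch : CharP F 2 := CharTwo.of_one_ne_zero_of_two_eq_zero one_ne_zero h2
    have hf2 : Fact (Nat.Prime 2) := ⟨Nat.prime_two⟩
    have hQp : IsPGroup 2 (zpowers t) := by
      rw [IsPGroup.iff_card]
      exact ⟨1, by rw [Nat.card_zpowers, ht, pow_one]⟩
    have hQ : zpowers t ≠ ⊥ := by
      rw [Ne, zpowers_eq_bot]
      rintro rfl
      rw [orderOf_one] at ht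
      omega
    obtain ⟨g, h1, -⟩ := Cfsg.Agent.H947.Sy.exists_borel hQ hQp
    obtain ⟨c, hc⟩ := h1 t (mem_zpowers t)
    have h3 : Nat.card F ≤ Nat.card (Subgroup.centralizer ({t} : Set P2)) := by
      refine Nat.card_le_card_of_injective (fun y => ⟨pr (g * u y * g⁻¹), ?_⟩) ?_
      · rw [Subgroup.mem_centralizer_singleton_iff, hc, ← map_mul, ← map_mul]
        congr 1
        have h4 : g * u y * g⁻¹ * (g * u c * g⁻¹) = g * (u y * u c) * g⁻¹ := by group
        have h5 : g * u c * g⁻¹ * (g * u y * g⁻¹) = g * (u c * u y) * g⁻¹ := by group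
        rw [h4, h5, ← u_add, ← u_add, add_comm]
      · intro x y hxy
        have h4 : (pr (g * u x * g⁻¹) : P2) = pr (g * u y * g⁻¹) := congrArg Subtype.val hxy
        rw [map_mul, map_mul, map_mul, map_mul] at h4
        exact pr_u_inj (mul_left_cancel (mul_right_cancel h4))
    rw [Nat.card_eq_fintype_card] at h3
    omega
  · rw [Cfsg.Agent.TwoFusion.PSLTwoGood.card_centralizer hodd ht]
    have h4 : Fintype.card F % 4 = 1 ∨ Fintype.card F % 4 = 3 := by
      rw [Nat.odd_iff] at hodd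
      omega
    rcases h4 with h4 | h4
    · rw [Cfsg.Agent.ClassicalGeometry.SLTwoFour.card_circle_one h4]
    · rw [Cfsg.Agent.ClassicalGeometry.SLTwoFour.card_circle_three h4]
      omega

/-- `|T| (2, q-1) = (q-1) q (q+1)` -/
theorem card_T : Nat.card P2 * Nat.gcd 2 (Fintype.card F - 1) =
    (Fintype.card F - 1) * (Fintype.card F - 1 + 1) * (Fintype.card F - 1 + 2) := by
  rw [Cfsg.Agent.ClassicalGeometry.PSL2Basic.card_PSL2_gcd]
  have h1 : 1 ≤ Fintype.card F := Fintype.card_pos
  obtain ⟨r, hr⟩ := Nat.exists_eq_add_of_le' h1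
  rw [hr, Nat.add_sub_cancel]
  have h2 : (r + 1) ^ 2 - 1 = r * (r + 2) := by
    have : (r + 1) ^ 2 = r * (r + 2) + 1 := by ring
    omega
  rw [h2]
  ring

variable [IsSimpleGroup (ProjectiveSpecialLinearGroup (Fin 2) F)]
  {A : Subgroup (ProjectiveSpecialLinearGroup (Fin 2) F)} {Γ : Subgroup (MulAut (ProjectiveSpecialLinearGroup (Fin 2) F))}

theorem bound (hna : ∃ a b : P2, a * b ≠ b * a) (h : IF A Γ) {B : Type*} [Group B] (e : A ≃* B) (s : B)
    (hs : orderOf s = 2) {c : ℕ} (hc : Nat.card (Subgroup.centralizer ({s} : Set B)) ≤ c) :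
    (Fintype.card F - 1) ^ 6 < c ^ 6 * A.index := by
  have ht2 : orderOf ((e.symm s : A) : P2) = 2 := by
    rw [orderOf_coe, MulEquiv.orderOf_eq, hs]
  have h1 := cent_bound (Cfsg.Agent.H999.IFB.orderOf_conj hna) h (e.symm s).2 ht2
  have h2 := card_cent_equiv e (e.symm s).2
  have h3 : e ⟨((e.symm s : A) : P2), (e.symm s).2⟩ = s := e.apply_symm_apply s
  rw [h3] at h2
  rw [h2] at h1
  calc (Fintype.card F - 1) ^ 6 ≤ Nat.card (Subgroup.centralizer ({((e.symm s : A) : P2)} : Set P2)) ^ 6 :=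
        Nat.pow_le_pow_left (card_cent_ge ht2) 6
    _ < _ := h1
    _ ≤ A.index * c ^ 6 := Nat.mul_le_mul_left _ (Nat.pow_le_pow_left hc 6)
    _ = _ := mul_comm _ _

theorem kill_four (hna : ∃ a b : P2, a * b ≠ b * a) (h : IF A Γ) {B : Type*} [Group B] (e : A ≃* B)
    (hB : 6 ≤ Nat.card B) (s : B)
    (hs : orderOf s = 2) (hc : Nat.card (Subgroup.centralizer ({s} : Set B)) ≤ 4) : False := by
  have h1 := bound hna h e s hs hc
  have h2 : Nat.card A = Nat.card B := Nat.card_congr e.toEquiv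
  have h3 := A.index_mul_card
  have h4 := card_T (F := F)
  have h5 : 0 < Nat.gcd 2 (Fintype.card F - 1) := Nat.gcd_pos_of_pos_left _ (by norm_num)
  refine num_four h.big ?_ h1
  rw [← h4, ← h3, h2]
  calc 6 * A.index = A.index * 6 * 1 := by ring
    _ ≤ A.index * Nat.card B * Nat.gcd 2 (Fintype.card F - 1) := by gcongr; omega

theorem kill_sub (hna : ∃ a b : P2, a * b ≠ b * a) (h : IF A Γ) {B : Type*} [Group B] (e : A ≃* B) {a m : ℕ}
    (ha : 2 ≤ a) (ham : a ^ m = Fintype.card F)
    (hcard : A.index * ((a - 1) * (a - 1 + 1) * (a - 1 + 2)) ≤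
      (Fintype.card F - 1) * (Fintype.card F - 1 + 1) * (Fintype.card F - 1 + 2))
    (s : B) (hs : orderOf s = 2) (hc : Nat.card (Subgroup.centralizer ({s} : Set B)) ≤ 2 * (a + 1)) : False := by
  have h1 := bound hna h e s hs hc
  have hbig := h.big
  obtain ⟨d, rfl⟩ : ∃ d, a = d + 1 := ⟨a - 1, by omega⟩
  rw [Nat.add_sub_cancel] at hcard
  obtain ⟨r, hr⟩ : ∃ r, Fintype.card F - 1 = r := ⟨_, rfl⟩
  have hq : Fintype.card F = r + 1 := by
    have := Fintype.card_pos (α := F)
    omega
  rw [hr] at h1 hcard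
  have hm : 2 ≤ m := by
    by_contra hcon
    have h2 : m = 0 ∨ m = 1 := by omega
    have h3 : r ≤ d := by
      rcases h2 with rfl | rfl
      · rw [pow_zero] at ham
        omega
      · rw [pow_one] at ham
        omega
    have h4 : r * (r + 1) * (r + 2) ≤ d * (d + 1) * (d + 2) := by gcongr
    have h5 : 0 < d * (d + 1) * (d + 2) := by
      have : 0 < d := by omega
      positivity
    have h6 : A.index * (d * (d + 1) * (d + 2)) ≤ 1 * (d * (d + 1) * (d + 2)) := by linarith
    have h7 := Nat.le_of_mul_le_mul_right h6 h5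
    omega
  have hr2 : d * (d + 2) ≤ r := by
    have h2 : (d + 1) ^ 2 ≤ (d + 1) ^ m := Nat.pow_le_pow_right (by omega) hm
    rw [ham, hq] at h2
    have h3 : (d + 1) ^ 2 = d * (d + 2) + 1 := by ring
    omega
  rcases Nat.lt_or_ge d 2 with hd | hd
  · obtain rfl : d = 1 := by omega
    have h2 : A.index * 6 ≤ r * (r + 1) * (r + 2) := by
      simpa using hcard
    have h3 : 31 ≤ r := by
      by_contra hcon
      have hm4 : m ≤ 4 := by
        by_contra hcon2
        have h4 : 2 ^ 5 ≤ 2 ^ m := Nat.pow_le_pow_right (by norm_num) (by omega)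
        have h5 : (1 + 1) ^ m = 2 ^ m := by norm_num
        omega
      have h4 : 2 ^ m ≤ 2 ^ 4 := Nat.pow_le_pow_right (by norm_num) hm4
      have h5 : (1 + 1) ^ m = 2 ^ m := by norm_num
      have h6 : r ≤ 15 := by omega
      have h7 : r * (r + 1) * (r + 2) ≤ 15 * (15 + 1) * (15 + 2) := by gcongr
      omega
    exact num_two (n := A.index) h3 (by linarith) (by simpa using h1)
  · exact num_sub hd hbig hr2 hcard (by simpa [add_assoc] using h1)

end

/-- **The row `PSL₂(q)` of S5719.** -/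
theorem kill_psl_two (F : Type*) [Field F] [Fintype F] (hF : 4 ≤ Fintype.card F) :
    Kill (ProjectiveSpecialLinearGroup (Fin 2) F) := by
  classical
  intro A Γ h
  obtain ⟨p, hp⟩ := CharP.exists F
  have hfp : Fact p.Prime := ⟨(CharP.char_is_prime_or_zero F p).resolve_right (CharP.char_ne_zero_of_finite F p)⟩
  have hs : IsSimpleGroup (ProjectiveSpecialLinearGroup (Fin 2) F) :=
    ProjectiveSpecialLinearGroup.rank_two_simple (by rwa [Nat.card_eq_fintype_card])
  have hna : ∃ a b : ProjectiveSpecialLinearGroup (Fin 2) F, a * b ≠ b * a := by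
    by_contra hcon
    push Not at hcon
    exact Cfsg.Agent.ClassicalGeometry.PSL2Solvable.not_isSolvable_psl F hF (Group.isSolvable_of_comm hcon)
  rcases Cfsg.Agent.S0799.result rfl p A with ⟨k, -, hk⟩ | ⟨P, K, hK, ⟨e⟩⟩ | ⟨⟨e⟩⟩ | ⟨⟨e⟩⟩ | ⟨⟨e⟩⟩ | ⟨K, iK, iK', m, hKm, he⟩
  · rcases hk with ⟨hc, -⟩ | ⟨⟨e⟩⟩
    · refine not_abel hna h fun a ha b hb => ?_
      have := (hc.isMulCommutative).is_comm.comm (⟨a, ha⟩ : A) ⟨b, hb⟩
      exact congrArg Subtype.val this
    · have hk0 : k ≠ 0 := by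
        rintro rfl
        have h1 : Finite (DihedralGroup 0) := Finite.of_equiv _ e.toEquiv
        have h2 : Function.Injective (fun i : ℤ => (DihedralGroup.r (i : ZMod 0) : DihedralGroup 0)) := by
          intro i j hij
          exact DihedralGroup.r.inj hij
        exact (Infinite.not_finite (α := ℤ)) (Finite.of_injective _ h2)
      by_cases hk2 : k ≤ 2
      · refine not_abel hna h fun a ha b hb => ?_
        have h1 : (⟨a, ha⟩ : A) * ⟨b, hb⟩ = ⟨b, hb⟩ * ⟨a, ha⟩ := by
          apply e.injective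
          rw [map_mul, map_mul]
          exact dihedral_comm (by omega) _ _
        exact congrArg Subtype.val h1
      · refine kill_four hna h e ?_ (DihedralGroup.sr 0) (DihedralGroup.orderOf_sr 0) (dihedral_cent (by omega))
        rw [DihedralGroup.nat_card]
        omega
  · exact kill_borel hna h P K hK e
  · obtain ⟨s, hs2, hc⟩ := cent_a4
    refine kill_four hna h e ?_ s hs2 hc
    rw [Nat.card_eq_fintype_card]
    decide +kernel
  · obtain ⟨s, hs2, hc⟩ := cent_s4
    refine kill_four hna h e ?_ s hs2 hc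
    rw [Nat.card_eq_fintype_card]
    decide +kernel
  · obtain ⟨s, hs2, hc⟩ := cent_a5
    refine kill_four hna h e ?_ s hs2 hc
    rw [Nat.card_eq_fintype_card]
    decide +kernel
  · have hK2 : 2 ≤ Fintype.card K := Fintype.one_lt_card
    have hK1 := card_T (F := K)
    have hF1 := card_T (F := F)
    have h3 := A.index_mul_card
    rcases he with ⟨⟨e⟩⟩ | ⟨⟨e⟩⟩
    · obtain ⟨s, hs2, hc⟩ := exists_psl (K := K)
      refine kill_sub hna h e hK2 hKm ?_ s hs2 hc
      have h2 : Nat.card A = Nat.card (ProjectiveSpecialLinearGroup (Fin 2) K) := Nat.card_congr e.toEquiv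
      have h4 : Nat.gcd 2 (Fintype.card K - 1) ∣ Nat.gcd 2 (Fintype.card F - 1) := by
        apply Nat.dvd_gcd (Nat.gcd_dvd_left _ _)
        refine (Nat.gcd_dvd_right _ _).trans ?_
        rw [← hKm]
        have h5 := Nat.sub_dvd_pow_sub_pow (Fintype.card K) 1 m
        rwa [one_pow] at h5
      have h5 : Nat.gcd 2 (Fintype.card K - 1) ≤ Nat.gcd 2 (Fintype.card F - 1) :=
        Nat.le_of_dvd (Nat.gcd_pos_of_pos_left _ (by norm_num)) h4
      rw [← hK1, ← hF1, ← h3, h2, ← mul_assoc]
      exact Nat.mul_le_mul_left _ h5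
    · have hfin : Finite (ProjGenLinGroup (Fin 2) K) := Quotient.finite _
      refine kill_sub hna h e hK2 hKm ?_ (wP K) wP_sq card_cent_pgl
      have h2 : Nat.card A = Nat.card (ProjGenLinGroup (Fin 2) K) := Nat.card_congr e.toEquiv
      have h4 : Nat.card (ProjGenLinGroup (Fin 2) K) =
          (Fintype.card K - 1) * (Fintype.card K - 1 + 1) * (Fintype.card K - 1 + 2) := by
        rw [← hK1, Cfsg.Agent.ClassicalGeometry.PSL2Basic.card_PSL2_gcd,
          Cfsg.Agent.ClassicalGeometry.PSL2Basic.card_PGL2]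
      rw [← h4, ← h2, h3, ← hF1]
      exact Nat.le_mul_of_pos_right _ (Nat.gcd_pos_of_pos_left _ (by norm_num))

end Cfsg.Agent.H800.IFx
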