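import Cfsg.Agent.H771.IFx.Idx

/-!
# S5719: subgroups of `SL₂(q) × SL₂(q)` of small index (helper800)

* `two_factor` : `q ≥ 5` odd, `X ≤ SL₂(q) × SL₂(q)`, `|.. : X|^5 < q^4 (q^2 + 1) (q^2 + q + 1)`: `X` contains a factor.
-/

set_option autoImplicit false
set_option linter.unusedSectionVars false

namespace Cfsg.Agent.H800.IFx

open Matrix Subgroup

section abs

variable {S T : Type*} [Group S] [Group T] [Finite S] [Finite T]

theorem index_mul_le (X : Subgroup (S × T)) :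
    (X.map (MonoidHom.fst S T)).index * (X.map (MonoidHom.snd S T)).index ≤ X.index := by
  have h1 : X ≤ (X.map (MonoidHom.fst S T)).prod (X.map (MonoidHom.snd S T)) := fun x hx => ⟨⟨x, hx, rfl⟩, ⟨x, hx, rfl⟩⟩
  have h2 : Nat.card X ≤ Nat.card (X.map (MonoidHom.fst S T)) * Nat.card (X.map (MonoidHom.snd S T)) := by
    rw [← Nat.card_prod]
    exact Nat.card_le_card_of_injective (fun x => (⟨⟨x.1.1, x.1, x.2, rfl⟩, ⟨x.1.2, x.1, x.2, rfl⟩⟩ :
      X.map (MonoidHom.fst S T) × X.map (MonoidHom.snd S T))) (fun x y hxy => by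
        have h3 : x.1.1 = y.1.1 := congrArg (fun z => z.1.1) hxy
        have h4 : x.1.2 = y.1.2 := congrArg (fun z => z.2.1) hxy
        exact Subtype.ext (Prod.ext h3 h4))
  have h3 := X.index_mul_card
  have h4 := (X.map (MonoidHom.fst S T)).index_mul_card
  have h5 := (X.map (MonoidHom.snd S T)).index_mul_card
  rw [Nat.card_prod, ← h4, ← h5] at h3
  have h6 : 0 < Nat.card X := Nat.card_pos
  refine Nat.le_of_mul_le_mul_right ?_ h6
  rw [h3]
  calc _ ≤ (X.map (MonoidHom.fst S T)).index * (X.map (MonoidHom.snd S T)).index *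
        (Nat.card (X.map (MonoidHom.fst S T)) * Nat.card (X.map (MonoidHom.snd S T))) := Nat.mul_le_mul_left _ h2
    _ = _ := by ring

theorem side (X : Subgroup (S × T)) (h1 : X.map (MonoidHom.fst S T) = ⊤)
    (hN : ∀ Y : Subgroup S, Y.Normal → Y ≠ ⊤ → Nat.card Y ≤ 2) (hidx : 2 * X.index < Nat.card S) :
    ∀ a : S, (a, (1 : T)) ∈ X := by
  obtain ⟨Y, hY⟩ : ∃ Y : Subgroup S, Y = X.comap (MonoidHom.inl S T) := ⟨_, rfl⟩
  have hmem : ∀ a, a ∈ Y ↔ (a, (1 : T)) ∈ X := fun a => by rw [hY]; rfl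
  by_contra hcon
  have hne : Y ≠ ⊤ := by
    intro h2
    apply hcon
    intro a
    rw [← hmem, h2]
    exact mem_top a
  have hn : Y.Normal := ⟨fun a ha g => by
    obtain ⟨x, hx, hxg⟩ : g ∈ X.map (MonoidHom.fst S T) := by rw [h1]; exact mem_top g
    obtain ⟨g', b⟩ := x
    have h2 : g' = g := hxg
    subst h2
    rw [hmem] at ha ⊢
    have h3 := X.mul_mem (X.mul_mem hx ha) (X.inv_mem hx)
    have h4 : (g', b) * (a, (1 : T)) * (g', b)⁻¹ = (g' * a * g'⁻¹, 1) := by
      rw [Prod.inv_mk, Prod.mk_mul_mk, Prod.mk_mul_mk, mul_one, mul_inv_cancel]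
    rwa [h4] at h3⟩
  have h2 := hN Y hn hne
  have h3 : Nat.card X ≤ 2 * Nat.card T := by
    classical
    refine le_trans ?_ (Nat.mul_le_mul_right (Nat.card T) h2)
    rw [← Nat.card_prod]
    -- choose representatives of the fibres of `snd`
    let r : T → X := fun t => if h : ∃ y : X, y.1.2 = t then h.choose else 1
    have hr : ∀ x : X, (r x.1.2).1.2 = x.1.2 := by
      intro x
      have h : ∃ y : X, y.1.2 = x.1.2 := ⟨x, rfl⟩
      have h4 : r x.1.2 = h.choose := dif_pos h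
      rw [h4]
      exact h.choose_spec
    have hYm : ∀ x : X, x.1.1 * (r x.1.2).1.1⁻¹ ∈ Y := by
      intro x
      rw [hmem]
      have h4 := X.mul_mem x.2 (X.inv_mem (r x.1.2).2)
      have h5 : (x : S × T) * (r x.1.2 : S × T)⁻¹ = (x.1.1 * (r x.1.2).1.1⁻¹, 1) := by
        apply Prod.ext
        · rfl
        · change x.1.2 * (r x.1.2).1.2⁻¹ = 1
          rw [hr, mul_inv_cancel]
      rwa [h5] at h4
    refine Nat.card_le_card_of_injective (fun x : X => ((⟨_, hYm x⟩, x.1.2) : Y × T)) ?_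
    intro x y hxy
    have h4 : x.1.2 = y.1.2 := congrArg (fun z => z.2) hxy
    have h5 : x.1.1 * (r x.1.2).1.1⁻¹ = y.1.1 * (r y.1.2).1.1⁻¹ := congrArg (fun z => z.1.1) hxy
    rw [h4] at h5
    exact Subtype.ext (Prod.ext (mul_right_cancel h5) h4)
  have h4 := X.index_mul_card
  rw [Nat.card_prod] at h4
  have h5 : 0 < Nat.card T := Nat.card_pos
  have h6 : Nat.card S * Nat.card T ≤ 2 * X.index * Nat.card T := by
    rw [← h4]
    calc X.index * Nat.card X ≤ X.index * (2 * Nat.card T) := Nat.mul_le_mul_left _ h3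
      _ = _ := by ring
  have h7 := Nat.le_of_mul_le_mul_right h6 h5
  omega

end abs

variable {F : Type*} [Field F] [Fintype F]

/-- normal subgroups of `SL₂(q)` -/
theorem sl_normal_card (ho : Odd (Fintype.card F)) (h5 : 5 ≤ Fintype.card F)
    (Y : Subgroup (SpecialLinearGroup (Fin 2) F)) (hn : Y.Normal) (hne : Y ≠ ⊤) : Nat.card Y ≤ 2 := by
  have h2 := Cfsg.Agent.H771.IFx.two_ne_of_odd ho
  have hs : IsSimpleGroup (ProjectiveSpecialLinearGroup (Fin 2) F) :=
    ProjectiveSpecialLinearGroup.rank_two_simple (by rw [Nat.card_eq_fintype_card]; omega)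
  let π : SpecialLinearGroup (Fin 2) F →* ProjectiveSpecialLinearGroup (Fin 2) F :=
    QuotientGroup.mk' (Subgroup.center (SpecialLinearGroup (Fin 2) F))
  have hπ : Function.Surjective π := QuotientGroup.mk'_surjective _
  have hcc : Nat.card (Subgroup.center (SpecialLinearGroup (Fin 2) F)) = 2 :=
    Cfsg.Agent.ClassicalGeometry.PSL2Basic.card_center_SL2_odd h2
  have hker : π.ker = Subgroup.center (SpecialLinearGroup (Fin 2) F) := QuotientGroup.ker_mk' _
  rcases (hn.map π hπ).eq_bot_or_eq_top with h1 | h1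
  · have h3 : Y ≤ Subgroup.center (SpecialLinearGroup (Fin 2) F) := by
      rw [← hker]
      exact (Subgroup.map_eq_bot_iff Y).1 h1
    exact (Subgroup.card_le_of_le h3).trans hcc.le
  · exfalso
    apply hne
    apply Cfsg.Agent.H771.IFx.idx_top ho h5
    have h3 : Y.index ≤ 2 := by
      have h4 : Y ⊔ Subgroup.center (SpecialLinearGroup (Fin 2) F) = ⊤ := by
        rw [← hker, ← Subgroup.comap_map_eq, h1, Subgroup.comap_top]
      have h5 : Y.relIndex (Subgroup.center (SpecialLinearGroup (Fin 2) F)) = Y.index := by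
        rw [← Subgroup.relIndex_sup_right, sup_comm, h4, Subgroup.relIndex_top_right]
      rw [← h5]
      exact (Nat.le_of_dvd Nat.card_pos (Subgroup.relIndex_dvd_card _ _)).trans hcc.le
    calc Y.index ^ 5 ≤ 2 ^ 5 := Nat.pow_le_pow_left h3 5
      _ < (5 ^ 2 + 5 + 1) * 5 ^ 2 := by norm_num
      _ ≤ _ := by gcongr

theorem two_factor (ho : Odd (Fintype.card F)) (h5 : 5 ≤ Fintype.card F)
    (X : Subgroup (SpecialLinearGroup (Fin 2) F × SpecialLinearGroup (Fin 2) F))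
    (h : X.index ^ 5 < Fintype.card F ^ 4 * (Fintype.card F ^ 2 + 1) * (Fintype.card F ^ 2 + Fintype.card F + 1)) :
    (∀ a, (a, (1 : SpecialLinearGroup (Fin 2) F)) ∈ X) ∨ (∀ b, ((1 : SpecialLinearGroup (Fin 2) F), b) ∈ X) := by
  obtain ⟨q, hq⟩ : ∃ q, Fintype.card F = q := ⟨_, rfl⟩
  have hcard : Nat.card (SpecialLinearGroup (Fin 2) F) = q * (q ^ 2 - 1) := by
    rw [Cfsg.Agent.ClassicalGeometry.PSL2Basic.card_SL2, hq]
  have hq5 : 5 ≤ q := by omega
  have hidx : 2 * X.index < Nat.card (SpecialLinearGroup (Fin 2) F) := by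
    rw [hcard]
    by_contra hcon
    push Not at hcon
    rw [hq] at h
    have h1 : (q * (q ^ 2 - 1)) ^ 5 ≤ (2 * X.index) ^ 5 := Nat.pow_le_pow_left hcon 5
    have h2 : q ^ 2 ≤ 2 * (q ^ 2 - 1) := by
      have : 5 ^ 2 ≤ q ^ 2 := Nat.pow_le_pow_left hq5 2
      omega
    have h3 : (q * q ^ 2) ^ 5 ≤ (2 * (q * (q ^ 2 - 1))) ^ 5 := by
      apply Nat.pow_le_pow_left
      calc q * q ^ 2 ≤ q * (2 * (q ^ 2 - 1)) := Nat.mul_le_mul_left _ h2
        _ = _ := by ring
    have h4 : (q * q ^ 2) ^ 5 ≤ 2 ^ 10 * X.index ^ 5 := by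
      calc _ ≤ _ := h3
        _ = 2 ^ 5 * (q * (q ^ 2 - 1)) ^ 5 := by ring
        _ ≤ 2 ^ 5 * (2 * X.index) ^ 5 := Nat.mul_le_mul_left _ h1
        _ = _ := by ring
    have h5 : (q * q ^ 2) ^ 5 < 2 ^ 10 * (q ^ 4 * (q ^ 2 + 1) * (q ^ 2 + q + 1)) := by
      calc _ ≤ _ := h4
        _ < _ := by gcongr
    have h6 : q ^ 4 * (q ^ 2 + 1) * (q ^ 2 + q + 1) ≤ q ^ 4 * (2 * q ^ 2) * (2 * q ^ 2) := by
      gcongr <;> nlinarith
    have h7 : q ^ 8 * q ^ 7 < q ^ 8 * 4096 := by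
      calc q ^ 8 * q ^ 7 = (q * q ^ 2) ^ 5 := by ring
        _ < _ := h5
        _ ≤ 2 ^ 10 * (q ^ 4 * (2 * q ^ 2) * (2 * q ^ 2)) := Nat.mul_le_mul_left _ h6
        _ = _ := by ring
    have h8 : q ^ 7 < 4096 := lt_of_mul_lt_mul_left h7 (Nat.zero_le _)
    have h9 : 5 ^ 7 ≤ q ^ 7 := Nat.pow_le_pow_left hq5 7
    omega
  have hN := sl_normal_card ho h5
  by_cases h1 : X.map (MonoidHom.fst _ _) = ⊤
  · exact Or.inl (side X h1 hN hidx)
  · by_cases h2 : X.map (MonoidHom.snd (SpecialLinearGroup (Fin 2) F) (SpecialLinearGroup (Fin 2) F)) = ⊤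
    · right
      have h3 := side (X.comap (MulEquiv.prodComm (M := SpecialLinearGroup (Fin 2) F)
        (N := SpecialLinearGroup (Fin 2) F)).toMonoidHom) (by
          rw [eq_top_iff]
          intro b _
          obtain ⟨⟨x, y⟩, hx, hxy⟩ : b ∈ X.map (MonoidHom.snd (SpecialLinearGroup (Fin 2) F)
            (SpecialLinearGroup (Fin 2) F)) := by rw [h2]; exact mem_top b
          exact ⟨(y, x), hx, hxy⟩) hN (by
          rw [Subgroup.index_comap_of_surjective _ (MulEquiv.surjective _)]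
          exact hidx)
      exact h3
    · exfalso
      have h3 : (Fintype.card F ^ 2 + Fintype.card F + 1) * Fintype.card F ^ 2 ≤ (X.map (MonoidHom.fst _ _)).index ^ 5 := by
        by_contra hcon
        exact h1 (Cfsg.Agent.H771.IFx.idx_top ho h5 _ (not_le.1 hcon))
      have h4 : (Fintype.card F ^ 2 + Fintype.card F + 1) * Fintype.card F ^ 2 ≤ (X.map (MonoidHom.snd _ _)).index ^ 5 := by
        by_contra hcon
        exact h2 (Cfsg.Agent.H771.IFx.idx_top ho h5 _ (not_le.1 hcon))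
      have h6 := Nat.pow_le_pow_left (index_mul_le X) 5
      rw [mul_pow] at h6
      have h7 := Nat.mul_le_mul h3 h4
      rw [hq] at h h7
      have h8 : q ^ 4 * (q ^ 2 + 1) * (q ^ 2 + q + 1) ≤ (q ^ 2 + q + 1) * q ^ 2 * ((q ^ 2 + q + 1) * q ^ 2) := by
        calc q ^ 4 * (q ^ 2 + 1) * (q ^ 2 + q + 1) ≤ q ^ 4 * (q ^ 2 + q + 1) * (q ^ 2 + q + 1) := by gcongr; omega
          _ = _ := by ring
      omega

end Cfsg.Agent.H800.IFx
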