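import Cfsg.Agent.H838.IF.Defs
import Cfsg.Agent.H800.IFx.Gou
import Cfsg.Agent.H715.IFU.ClsN
import Cfsg.Agent.SignalizersComponents.SLQuasisimple

/-!
# S5719, `PSU_4(q)`, `q ≥ 5` odd: step C (helper800)

`H` contains the involution `t`, which is `-1` on the nondegenerate plane `P` and `1` on `P^⊥`: `H` contains all transvections
with centre in `P`, or all transvections with centre in `P^⊥`.

* `tl`, `ph` : the action of `SL₂(F)` on a hyperbolic plane;
* `ph_isom`, `exists_ph` : matrices over the fixed field, transvections;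
* `stepC`.
-/

set_option autoImplicit false
set_option linter.unusedSectionVars false

namespace Cfsg.Agent.H800.IFx

open Module Matrix Cfsg.Agent.H91.U Cfsg.Agent.H450.UF Cfsg.Agent.H450.Bs Cfsg.Agent.H838.IF

variable {F V : Type*} [Field F] [AddCommGroup V] [Module F V] {σ : F →+* F} {B : V →ₛₗ[σ] V →ₗ[F] F}

variable (B) in
/-- a hyperbolic pair together with an element of trace zero -/
structure Hy (ε : F) (e f : V) : Prop where
  ee : B e e = 0
  ff : B f f = 0
  ef : B e f = 1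
  fe : B f e = 1
  ne : ε ≠ 0

variable (B) in
/-- the matrix `m` acts on the plane `⟨e, f⟩` -/
def tl (ε : F) (e f : V) (m : Matrix (Fin 2) (Fin 2) F) : V →ₗ[F] V :=
  LinearMap.id + ((m 0 0 - 1) • B f + (ε * m 0 1) • B e).smulRight e +
    ((ε⁻¹ * m 1 0) • B f + (m 1 1 - 1) • B e).smulRight f

variable {ε : F} {e f : V}

theorem tl_apply (m : Matrix (Fin 2) (Fin 2) F) (v : V) : tl B ε e f m v =
    v + ((m 0 0 - 1) * B f v + ε * m 0 1 * B e v) • e + (ε⁻¹ * m 1 0 * B f v + (m 1 1 - 1) * B e v) • f := rfl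

theorem lin_congr {v : V} {a b a' b' : F} (h : a = a') (h' : b = b') : v + a • e + b • f = v + a' • e + b' • f := by
  rw [h, h']

theorem B_tl (m : Matrix (Fin 2) (Fin 2) F) (w v : V) : B w (tl B ε e f m v) =
    B w v + ((m 0 0 - 1) * B f v + ε * m 0 1 * B e v) * B w e +
      (ε⁻¹ * m 1 0 * B f v + (m 1 1 - 1) * B e v) * B w f := by
  rw [tl_apply, map_add, map_add, smul_right, smul_right]

theorem tl_e (h : Hy B ε e f) (m : Matrix (Fin 2) (Fin 2) F) (v : V) :
    B e (tl B ε e f m v) = ε⁻¹ * m 1 0 * B f v + m 1 1 * B e v := by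
  rw [B_tl, h.ee, h.ef]
  ring

theorem tl_f (h : Hy B ε e f) (m : Matrix (Fin 2) (Fin 2) F) (v : V) :
    B f (tl B ε e f m v) = m 0 0 * B f v + ε * m 0 1 * B e v := by
  rw [B_tl, h.fe, h.ff]
  ring

theorem tl_mul (h : Hy B ε e f) (m m' : Matrix (Fin 2) (Fin 2) F) (v : V) :
    tl B ε e f (m * m') v = tl B ε e f m (tl B ε e f m' v) := by
  have hne := h.ne
  rw [tl_apply m (tl B ε e f m' v), tl_e h, tl_f h, tl_apply m', tl_apply]
  have h1 : ∀ a b a' b' : F, v + a' • e + b' • f + a • e + b • f = v + (a' + a) • e + (b' + b) • f := by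
    intro a b a' b'
    module
  rw [h1, Matrix.mul_apply, Matrix.mul_apply, Matrix.mul_apply, Matrix.mul_apply, Fin.sum_univ_two, Fin.sum_univ_two,
    Fin.sum_univ_two, Fin.sum_univ_two]
  refine lin_congr ?_ ?_
  · field_simp
    ring
  · field_simp
    ring

theorem tl_one (v : V) : tl B ε e f 1 v = v := by
  rw [tl_apply, Matrix.one_apply_eq, Matrix.one_apply_eq, Matrix.one_apply_ne (by decide), Matrix.one_apply_ne (by decide)]
  simp

/-- `SL₂(F)` acts on the plane `⟨e, f⟩` -/
def ph (h : Hy B ε e f) : SpecialLinearGroup (Fin 2) F →* (V ≃ₗ[F] V) where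
  toFun m := LinearEquiv.ofLinearMap (tl B ε e f m.1) (tl B ε e f (m⁻¹).1)
    (LinearMap.ext fun v => by
      have h1 : m.1 * (m⁻¹).1 = 1 := congrArg Subtype.val (mul_inv_cancel m)
      change tl B ε e f m.1 (tl B ε e f (m⁻¹).1 v) = v
      rw [← tl_mul h, h1, tl_one])
    (LinearMap.ext fun v => by
      have h1 : (m⁻¹).1 * m.1 = 1 := congrArg Subtype.val (inv_mul_cancel m)
      change tl B ε e f (m⁻¹).1 (tl B ε e f m.1 v) = v
      rw [← tl_mul h, h1, tl_one])
  map_one' := LinearEquiv.ext fun v => tl_one v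
  map_mul' m m' := LinearEquiv.ext fun v => tl_mul h m.1 m'.1 v

theorem ph_apply (h : Hy B ε e f) (m : SpecialLinearGroup (Fin 2) F) (v : V) : ph h m v = tl B ε e f m.1 v := rfl

/-- isometries -/
theorem ph_isom (hB : HForm B) (h : Hy B ε e f) (hε : ε + σ ε = 0) (m : SpecialLinearGroup (Fin 2) F)
    (hm : ∀ i j, σ (m.1 i j) = m.1 i j) (v w : V) : B (ph h m v) (ph h m w) = B v w := by
  have hne := h.ne
  have hσε : σ ε = -ε := by linear_combination hε
  have hd : m.1 0 0 * m.1 1 1 - m.1 0 1 * m.1 1 0 = 1 := by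
    rw [← Matrix.det_fin_two]
    exact m.2
  have e1 : B (ph h m v) (ph h m w) = B (tl B ε e f m.1 v) (tl B ε e f m.1 w) := rfl
  rw [e1, B_tl, sw hB w (tl B ε e f m.1 v), sw hB e (tl B ε e f m.1 v), sw hB f (tl B ε e f m.1 v), tl_e h, tl_f h, B_tl,
    sw hB e w, sw hB f w]
  simp only [map_add, map_mul, map_sub, map_one, map_inv₀, hm, hσε, hB.invol]
  rw [← sw hB w v]
  field_simp
  linear_combination ε * (σ (B f v) * B e w + σ (B e v) * B f w) * hd

/-- transvections with centre in the plane -/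
theorem exists_ph (hB : HForm B) (h : Hy B ε e f) (hε : ε + σ ε = 0) {x y : F}
    (hc : B (x • e + y • f) (x • e + y • f) = 0) {l : F} (hl : l + σ l = 0) {g : V ≃ₗ[F] V}
    (hg : IsTv B (x • e + y • f) l g) :
    ∃ m : SpecialLinearGroup (Fin 2) F, (∀ i j, σ (m.1 i j) = m.1 i j) ∧ ph h m = g := by
  have hne := h.ne
  have hσε : σ ε = -ε := by linear_combination hε
  have hσl : σ l = -l := by linear_combination hl
  have hc' : σ x * y + σ y * x = 0 := by
    rw [map_add, map_add, LinearMap.add_apply, LinearMap.add_apply, smul_left, smul_left, smul_left, smul_left,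
      smul_right, smul_right, smul_right, smul_right, h.ee, h.ff, h.ef, h.fe] at hc
    linear_combination hc
  let M : Matrix (Fin 2) (Fin 2) F := !![1 + l * x * σ y, ε⁻¹ * (l * x * σ x); ε * (l * y * σ y), 1 + l * y * σ x]
  have hM : M.det = 1 := by
    rw [Matrix.det_fin_two]
    change (1 + l * x * σ y) * (1 + l * y * σ x) - ε⁻¹ * (l * x * σ x) * (ε * (l * y * σ y)) = 1
    field_simp
    linear_combination l * hc'
  obtain ⟨m, hm⟩ : ∃ m : SpecialLinearGroup (Fin 2) F, m.1 = M := ⟨⟨M, hM⟩, rfl⟩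
  refine ⟨m, ?_, LinearEquiv.ext fun v => ?_⟩
  · rw [hm]
    intro i j
    fin_cases i <;> fin_cases j
    · change σ (1 + l * x * σ y) = 1 + l * x * σ y
      rw [map_add, map_mul, map_mul, map_one, hB.invol, hσl]
      linear_combination -l * hc'
    · change σ (ε⁻¹ * (l * x * σ x)) = ε⁻¹ * (l * x * σ x)
      rw [map_mul, map_mul, map_mul, map_inv₀, hB.invol, hσl, hσε]
      field_simp
    · change σ (ε * (l * y * σ y)) = ε * (l * y * σ y)
      rw [map_mul, map_mul, map_mul, hB.invol, hσl, hσε]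
      ring
    · change σ (1 + l * y * σ x) = 1 + l * y * σ x
      rw [map_add, map_mul, map_mul, map_one, hB.invol, hσl]
      linear_combination -l * hc'
  · rw [ph_apply, tl_apply, hm, hg, map_add, LinearMap.add_apply, smul_left, smul_left, smul_add, smul_smul, smul_smul,
      ← add_assoc]
    change v + ((1 + l * x * σ y - 1) * B f v + ε * (ε⁻¹ * (l * x * σ x)) * B e v) • e +
      (ε⁻¹ * (ε * (l * y * σ y)) * B f v + (1 + l * y * σ x - 1) * B e v) • f = _
    refine lin_congr ?_ ?_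
    · field_simp
      ring
    · field_simp
      ring

/-- determinant one -/
theorem ph_mem [Fintype F] (hB : HForm B) (h4 : 4 ≤ Fintype.card F) (h : Hy B ε e f) (hε : ε + σ ε = 0)
    (m : SpecialLinearGroup (Fin 2) F) (hm : ∀ i j, σ (m.1 i j) = m.1 i j) : ph h m ∈ SIso B := by
  refine ⟨?_, ph_isom hB h hε m hm⟩
  have hperf := (Cfsg.Agent.SignalizersComponents.SLQuasisimple.isQuasisimple_two (F := F)
    (by rw [Nat.card_eq_fintype_card]; exact h4)).1
  have h1 : commutator (SpecialLinearGroup (Fin 2) F) = ⊤ := hperf.commutator_eq_top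
  have h2 : commutator (SpecialLinearGroup (Fin 2) F) ≤ (LinearEquiv.det.comp (ph h)).ker :=
    Abelianization.commutator_subset_ker _
  rw [h1] at h2
  exact h2 (Subgroup.mem_top m)

theorem tl_comm {e' f' : V} (h1 : B e e' = 0) (h2 : B e f' = 0) (h3 : B f e' = 0) (h4 : B f f' = 0) (hB : HForm B)
    (m m' : Matrix (Fin 2) (Fin 2) F) (v : V) :
    tl B ε e f m (tl B ε e' f' m' v) = tl B ε e' f' m' (tl B ε e f m v) := by
  have e1 : B e (tl B ε e' f' m' v) = B e v := by rw [B_tl, h1, h2, mul_zero, mul_zero, add_zero, add_zero]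
  have e2 : B f (tl B ε e' f' m' v) = B f v := by rw [B_tl, h3, h4, mul_zero, mul_zero, add_zero, add_zero]
  have e3 : B e' (tl B ε e f m v) = B e' v := by
    rw [B_tl, hB.swap_zero h1, hB.swap_zero h3, mul_zero, mul_zero, add_zero, add_zero]
  have e4 : B f' (tl B ε e f m v) = B f' v := by
    rw [B_tl, hB.swap_zero h2, hB.swap_zero h4, mul_zero, mul_zero, add_zero, add_zero]
  rw [tl_apply m (tl B ε e' f' m' v), e1, e2, tl_apply m' (tl B ε e f m v), e3, e4, tl_apply, tl_apply]
  abel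

variable (σ) in
/-- the fixed field of the involution -/
abbrev Fx : Subfield F := RingHom.eqLocusField σ (RingHom.id F)

theorem card_fix [Fintype F] {q : ℕ} (hB : HForm B) (hF : Fintype.card F = q ^ 2) (h2 : (2 : F) ≠ 0) :
    Nat.card (Fx σ) = q := by
  obtain ⟨ε, hne, hε⟩ := exists_trz hB
  have hσε : σ ε = -ε := by linear_combination hε
  have hbij : Function.Bijective (fun z : Fx σ × Fx σ => (z.1 : F) + ε * (z.2 : F)) := by
    constructor
    · rintro ⟨⟨a, ha⟩, ⟨b, hb⟩⟩ ⟨⟨a', ha'⟩, ⟨b', hb'⟩⟩ hz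
      change a + ε * b = a' + ε * b' at hz
      change σ a = a at ha
      change σ b = b at hb
      change σ a' = a' at ha'
      change σ b' = b' at hb'
      have h3 := congrArg σ hz
      rw [map_add, map_add, map_mul, map_mul, ha, hb, ha', hb', hσε] at h3
      have h4 : a = a' := mul_left_cancel₀ h2 (by linear_combination hz + h3)
      have h5 : b = b' := mul_left_cancel₀ hne (by linear_combination hz - h4)
      subst h4
      subst h5
      rfl
    · intro x
      refine ⟨⟨⟨(x + σ x) / 2, ?_⟩, ⟨(x - σ x) / (2 * ε), ?_⟩⟩, ?_⟩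
      · change σ ((x + σ x) / 2) = (x + σ x) / 2
        rw [map_div₀, map_add, hB.invol, map_ofNat, add_comm]
      · change σ ((x - σ x) / (2 * ε)) = (x - σ x) / (2 * ε)
        rw [map_div₀, map_sub, map_mul, hB.invol, map_ofNat, hσε]
        field_simp
        ring
      · change (x + σ x) / 2 + ε * ((x - σ x) / (2 * ε)) = x
        field_simp
        ring
  have h3 := Nat.card_congr (Equiv.ofBijective _ hbij)
  rw [Nat.card_prod, Nat.card_eq_fintype_card (α := F), hF, sq] at h3
  exact Nat.mul_self_inj.1 h3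

/-- all transvections with centre in the plane -/
theorem on_of [Fintype F] [FiniteDimensional F V] (hB : HForm B) {H : Subgroup (V ≃ₗ[F] V)} {P : Submodule F V}
    (hP : finrank F P = 2) (he : e ∈ P) (hf : f ∈ P) (h : Hy B ε e f) (hε : ε + σ ε = 0)
    (hm : ∀ m : SpecialLinearGroup (Fin 2) (Fx σ), ph h (SpecialLinearGroup.map (Fx σ).subtype m) ∈ H) : On B H P := by
  intro c hcP hc0 hcc l hl g hg
  have hli : LinearIndependent F ![e, f] := li_of_not_perp h.ee (by rw [h.ef]; exact one_ne_zero)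
  have hle : Submodule.span F (Set.range ![e, f]) ≤ P := by
    rw [Submodule.span_le]
    rintro _ ⟨i, rfl⟩
    fin_cases i
    · exact he
    · exact hf
  have hspan : Submodule.span F (Set.range ![e, f]) = P :=
    Submodule.eq_of_le_of_finrank_eq hle (by rw [hP, finrank_span_eq_card hli, Fintype.card_fin])
  rw [← hspan, Matrix.range_cons_cons_empty, Submodule.mem_span_pair] at hcP
  obtain ⟨x, y, rfl⟩ := hcP
  obtain ⟨m, hm1, hm2⟩ := exists_ph hB h hε hcc hl hg
  obtain ⟨m', hm'⟩ : ∃ m' : SpecialLinearGroup (Fin 2) (Fx σ), SpecialLinearGroup.map (Fx σ).subtype m' = m := by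
    let M : Matrix (Fin 2) (Fin 2) (Fx σ) := Matrix.of fun i j => ⟨m.1 i j, hm1 i j⟩
    have hM : M.det = 1 := by
      apply (Fx σ).subtype.injective
      rw [RingHom.map_det, map_one]
      have h1 : (Fx σ).subtype.mapMatrix M = m.1 := rfl
      rw [h1]
      exact m.2
    exact ⟨⟨M, hM⟩, Subtype.ext rfl⟩
  rw [← hm2, ← hm']
  exact hm m'

/-- the orthogonal space of a nondegenerate plane -/
theorem np_pp [Fintype F] [FiniteDimensional F V] (hB : HForm B) (hV : finrank F V = 4) {P : Submodule F V}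
    (hP : NP B P) : NP B (pp B P) := by
  refine ⟨?_, fun x hx hxy => hB.eq_zero fun v => ?_⟩
  · have h1 := finrank_pp hB P
    rw [hP.dim, hV] at h1
    omega
  · obtain ⟨a, ha, b, hb, rfl⟩ := exists_decomp hB hP.nd v
    rw [map_add, hx a ha, hxy b (fun z hz => hB.swap_zero (hb z hz)), add_zero]

/-- **step C** -/
theorem stepC_of [Fintype F] [FiniteDimensional F V] {H : Subgroup (V ≃ₗ[F] V)} {q : ℕ} (hB : HForm B)
    (hF : Fintype.card F = q ^ 2) (hV : finrank F V = 4) (hq : Odd q) (h5 : 5 ≤ q) (hH : Pk B H)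
    (hc : ∀ (P : Submodule F V) (t : V ≃ₗ[F] V), NP B P → Neg B t P →
      cls B t ≤ q ^ 4 * (q ^ 2 + 1) * (q ^ 2 - q + 1)) : StepC B H := by
  intro P t hP ht htH
  have h2 : (2 : F) ≠ 0 := Cfsg.Agent.H771.IFx.two_ne_of_odd (by rw [hF]; exact hq.pow)
  have hfin : Fintype (Fx σ) := Fintype.ofFinite _
  have hK : Fintype.card (Fx σ) = q := by rw [← Nat.card_eq_fintype_card, card_fix hB hF h2]
  have hP' := np_pp hB hV hP
  obtain ⟨ε, hne, hε⟩ := exists_trz hB
  obtain ⟨e, he, f, hf, hee, hff, hef⟩ := exists_hyp hB hP.nd hP.dim.ge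
  obtain ⟨e', he', f', hf', hee', hff', hef'⟩ := exists_hyp hB hP'.nd hP'.dim.ge
  have h : Hy B ε e f := ⟨hee, hff, hef, by rw [sw hB e f, hef, map_one], hne⟩
  have h' : Hy B ε e' f' := ⟨hee', hff', hef', by rw [sw hB e' f', hef', map_one], hne⟩
  have hF4 : 4 ≤ Fintype.card F := by
    rw [hF]
    nlinarith
  let ι : SpecialLinearGroup (Fin 2) (Fx σ) →* SpecialLinearGroup (Fin 2) F := SpecialLinearGroup.map (Fx σ).subtype
  have hι : ∀ (m : SpecialLinearGroup (Fin 2) (Fx σ)) (i j : Fin 2), σ ((ι m).1 i j) = (ι m).1 i j :=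
    fun m i j => (m.1 i j).2
  have hcomm : ∀ m m', Commute (((ph h).comp ι) m) (((ph h').comp ι) m') := fun m m' => LinearEquiv.ext fun v =>
    tl_comm (hB.swap_zero (he' e he)) (hB.swap_zero (hf' e he)) (hB.swap_zero (he' f hf)) (hB.swap_zero (hf' f hf)) hB
      (ι m).1 (ι m').1 v
  let Φ := ((ph h).comp ι).noncommCoprod ((ph h').comp ι) hcomm
  have hΦ : ∀ m m', Φ (m, m') = ph h (ι m) * ph h' (ι m') := fun m m' => rfl
  have ht1 : ∀ x ∈ P, ∀ v, B x (t v) = -B x v := by
    intro x hx v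
    obtain ⟨a, ha, b, hb, rfl⟩ := exists_decomp hB hP.nd v
    rw [map_add, ht.1 a ha, ht.2 b (fun z hz => hB.swap_zero (hb z hz)), map_add, map_add, map_neg, hb x hx, add_zero,
      add_zero]
  have ht2 : ∀ x ∈ pp B P, ∀ v, B x (t v) = B x v := by
    intro x hx v
    obtain ⟨a, ha, b, hb, rfl⟩ := exists_decomp hB hP.nd v
    rw [map_add, ht.1 a ha, ht.2 b (fun z hz => hB.swap_zero (hb z hz)), map_add, map_add, map_neg, hx a ha, neg_zero]
  have hk1 : Φ.range ≤ SIso B := by
    rintro _ ⟨⟨m, m'⟩, rfl⟩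
    rw [hΦ]
    exact mul_mem (ph_mem hB hF4 h hε _ (hι m)) (ph_mem hB hF4 h' hε _ (hι m'))
  have hk2 : ∀ k ∈ Φ.range, Comm k t := by
    rintro _ ⟨⟨m, m'⟩, rfl⟩
    refine ⟨1, fun v => ?_⟩
    rw [hΦ, one_smul]
    change tl B ε e f (ι m).1 (tl B ε e' f' (ι m').1 (t v)) = t (tl B ε e f (ι m).1 (tl B ε e' f' (ι m').1 v))
    have e1 : ∀ v, tl B ε e' f' (ι m').1 (t v) = t (tl B ε e' f' (ι m').1 v) := by
      intro v
      rw [tl_apply, tl_apply, map_add, map_add, map_smul, map_smul, ht2 e' he', ht2 f' hf', ht.2 e' he', ht.2 f' hf']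
    have e2 : ∀ v, tl B ε e f (ι m).1 (t v) = t (tl B ε e f (ι m).1 v) := by
      intro v
      rw [tl_apply, tl_apply, map_add, map_add, map_smul, map_smul, ht1 e he, ht1 f hf, ht.1 e he, ht.1 f hf]
      module
    rw [e1, e2]
  have he0 : e ≠ 0 := by
    rintro rfl
    rw [map_zero, LinearMap.zero_apply] at hef
    exact zero_ne_one hef
  have he0' : e' ≠ 0 := by
    rintro rfl
    rw [map_zero, LinearMap.zero_apply] at hef'
    exact zero_ne_one hef'
  have hns : ¬ Scal t := by
    rintro ⟨a, ha⟩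
    have e1 := ha e
    have e2 := ha e'
    rw [ht.1 e he] at e1
    rw [ht.2 e' he'] at e2
    have e3 : (a + 1) • e = 0 := by rw [add_smul, ← e1, one_smul, neg_add_cancel]
    have e4 : (a - 1) • e' = 0 := by rw [sub_smul, ← e2, one_smul, sub_self]
    have e5 := (smul_eq_zero.1 e3).resolve_right he0
    have e6 := (smul_eq_zero.1 e4).resolve_right he0'
    exact h2 (by linear_combination e5 - e6)
  have hs : Scal (t * t) := by
    refine ⟨1, fun v => ?_⟩
    obtain ⟨a, ha, b, hb, rfl⟩ := exists_decomp hB hP.nd v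
    rw [LinearEquiv.mul_apply, one_smul, map_add, ht.1 a ha, ht.2 b (fun z hz => hB.swap_zero (hb z hz)), map_add,
      map_neg, ht.1 a ha, ht.2 b (fun z hz => hB.swap_zero (hb z hz)), neg_neg]
  have key := (hH.e2 t htH hns hs Φ.range hk1 hk2).trans_le (hc P t hP ht)
  rw [← Subgroup.index_comap] at key
  have key2 : (H.comap Φ).index ^ 5 < Fintype.card (Fx σ) ^ 4 * (Fintype.card (Fx σ) ^ 2 + 1) *
      (Fintype.card (Fx σ) ^ 2 + Fintype.card (Fx σ) + 1) := by
    rw [hK]
    exact key.trans_le (Nat.mul_le_mul_left _ (by omega))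
  rcases two_factor (by rw [hK]; exact hq) (by rw [hK]; exact h5) (H.comap Φ) key2 with h3 | h3
  · left
    refine on_of hB hP.dim he hf h hε fun m => ?_
    have h4 := h3 m
    rw [Subgroup.mem_comap, hΦ, map_one, map_one, mul_one] at h4
    exact h4
  · right
    refine on_of hB hP'.dim he' hf' h' hε fun m => ?_
    have h4 := h3 m
    rw [Subgroup.mem_comap, hΦ, map_one, map_one, one_mul] at h4
    exact h4

/-- **step C** -/
theorem stepC [Fintype F] [FiniteDimensional F V] {H : Subgroup (V ≃ₗ[F] V)} {q : ℕ} (hB : HForm B)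
    (hF : Fintype.card F = q ^ 2) (hV : finrank F V = 4) (hq : Odd q) (h5 : 5 ≤ q) (hH : Pk B H) : StepC B H :=
  stepC_of hB hF hV hq h5 hH fun _ _ hP ht => Cfsg.Agent.H715.IFU.cls_neg hB hF hV hP ht

end Cfsg.Agent.H800.IFx
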