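import Cfsg.Agent.H800.IFx.Gen
import Cfsg.Agent.H947.Sy.Psl2A
import Cfsg.Agent.ClassicalGeometry.AutPSL.Main

/-!
# S5719: `PSL₂(q)`, the point stabiliser is a Borel subgroup (helper800)

* `kill_BB` : `A = B` is impossible: an involution of `ΓB` fixing three points of the projective line fixes at
  least `√q` points;
* `kill_borel` : `A` is isomorphic to a subgroup of `N(P)`, `P` a Sylow `p`-subgroup.
-/

set_option autoImplicit false
set_option linter.unusedSectionVars false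

namespace Cfsg.Agent.H800.IFx

open Matrix Subgroup Cfsg.Agent.H209.Fxy
open Cfsg.Agent.LieClassical.SLTwoUnipotent Cfsg.Agent.ClassicalGeometry.PSL2Solvable
open Cfsg.Agent.ClassicalGeometry.AutPSL.Root Cfsg.Agent.ClassicalGeometry.AutPSL.Auto
  Cfsg.Agent.ClassicalGeometry.AutPSL.Main

section fixed

variable {F : Type*} [Field F]

/-- the fixed field of an automorphism of order at most two -/
theorem card_fixed [Finite F] (τ : F ≃+* F) (hτ : ∀ x, τ (τ x) = x) :
    Nat.card F ≤ (Nat.card {x : F // τ x = x}) ^ 2 := by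
  by_cases h : ∀ x, τ x = x
  · have h1 : Nat.card F ≤ Nat.card {x : F // τ x = x} :=
      Nat.card_le_card_of_injective (fun x => ⟨x, h x⟩) (fun x y hxy => congrArg Subtype.val hxy)
    exact h1.trans (Nat.le_self_pow two_ne_zero _)
  · push Not at h
    obtain ⟨y, hy⟩ := h
    rw [sq, ← Nat.card_prod]
    refine Nat.card_le_card_of_injective (fun x => ((⟨x + τ x, by rw [map_add, hτ, add_comm]⟩,
      ⟨y * x + τ (y * x), by rw [map_add, hτ, add_comm]⟩) : {x : F // τ x = x} × {x : F // τ x = x})) ?_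
    intro x x' hxx
    have h1 : x + τ x = x' + τ x' := congrArg (fun z => z.1.1) hxx
    have h2 : y * x + τ (y * x) = y * x' + τ (y * x') := congrArg (fun z => z.2.1) hxx
    rw [map_mul, map_mul] at h2
    have h3 : (x - x') * (y - τ y) = 0 := by linear_combination h2 - τ y * h1
    rcases mul_eq_zero.1 h3 with h4 | h4
    · exact sub_eq_zero.1 h4
    · exact absurd (sub_eq_zero.1 h4).symm hy

end fixed

section coset

variable {T : Type*} [Group T] {A : Subgroup T}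

theorem mem_fixSet {σ : MulAut T} (hσ : ∀ a ∈ A, σ a ∈ A) (y : T) :
    ((y : T ⧸ A) ∈ fixSet A σ) ↔ y⁻¹ * σ y ∈ A := by
  constructor
  · rintro ⟨z, hz, hzA⟩
    have h1 : z⁻¹ * y ∈ A := QuotientGroup.eq.1 hz
    have h2 : y⁻¹ * σ y = (z⁻¹ * y)⁻¹ * (z⁻¹ * σ z) * σ (z⁻¹ * y) := by
      rw [map_mul, map_inv]
      group
    rw [h2]
    exact A.mul_mem (A.mul_mem (A.inv_mem h1) hzA) (hσ _ h1)
  · intro h
    exact ⟨y, rfl, h⟩

end coset

section Borel

variable {F : Type*} [Field F]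

local notation "S2" => Matrix.SpecialLinearGroup (Fin 2) F
local notation "P2" => Matrix.ProjectiveSpecialLinearGroup (Fin 2) F

/-- upper triangular matrices modulo scalars -/
def BB (F : Type*) [Field F] : Subgroup (ProjectiveSpecialLinearGroup (Fin 2) F) := (borel F).map pr

theorem mem_BB {s : S2} : (pr s : P2) ∈ BB F ↔ s 1 0 = 0 := by
  constructor
  · rintro ⟨t, ht, hts⟩
    rcases Cfsg.Agent.H947.Sy.pr_eq_iff.1 hts with h | h
    · rw [h]
      exact mem_borel_iff.1 ht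
    · rw [h]
      have := mem_borel_iff.1 ht
      simp [this]
  · intro h
    exact ⟨s, mem_borel_iff.2 h, rfl⟩

/-- the point `x` of the projective line -/
def gx (x : F) : S2 := ⟨!![x, -1; 1, 0], by simp [det_fin_two]⟩

theorem coe_gx (x : F) : (gx x : Matrix (Fin 2) (Fin 2) F) = !![x, -1; 1, 0] := rfl

theorem gx_inv_mul (x : F) (s : S2) : ((gx x)⁻¹ * s) 1 0 = -(s 0 0) + x * s 1 0 := by
  rw [Matrix.SpecialLinearGroup.coe_mul, Matrix.SpecialLinearGroup.coe_inv, Matrix.adjugate_fin_two, coe_gx]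
  simp [Matrix.mul_apply, Fin.sum_univ_two]

theorem exists_gx (c : P2 ⧸ BB F) (hc : c ≠ ((1 : P2) : P2 ⧸ BB F)) : ∃ x : F, c = ((pr (gx x) : P2) : P2 ⧸ BB F) := by
  induction c using QuotientGroup.induction_on with
  | H y =>
    obtain ⟨s, rfl⟩ := pr_surjective y
    have h0 : s 1 0 ≠ 0 := by
      intro h
      apply hc
      symm
      rw [QuotientGroup.eq, inv_one, one_mul]
      exact mem_BB.2 h
    refine ⟨s 0 0 / s 1 0, ?_⟩
    symm
    rw [QuotientGroup.eq, ← map_inv, ← map_mul, mem_BB, gx_inv_mul, div_mul_cancel₀ _ h0, neg_add_cancel]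

theorem gx_inj {x y : F} (h : ((pr (gx x) : P2) : P2 ⧸ BB F) = ((pr (gx y) : P2) : P2 ⧸ BB F)) : x = y := by
  rw [QuotientGroup.eq, ← map_inv, ← map_mul, mem_BB, gx_inv_mul, coe_gx] at h
  simp only [of_apply, cons_val', cons_val_zero, cons_val_fin_one, cons_val_one, mul_one] at h
  linear_combination h

theorem pr_u_inj {x y : F} (h : (pr (u x) : P2) = pr (u y)) : x = y := by
  rcases Cfsg.Agent.H947.Sy.pr_eq_iff.1 h with h1 | h1
  · have h2 := congrArg (fun s : S2 => s 0 1) h1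
    simp only [coe_u] at h2
    simpa using h2.symm
  · have h2 := congrArg (fun s : S2 => s 0 1) h1
    have h3 := congrArg (fun s : S2 => s 0 0) h1
    simp only [Matrix.SpecialLinearGroup.coe_neg, coe_u] at h2 h3
    simp at h2 h3
    rw [h2]
    linear_combination x * h3

/-- entries of `D s D⁻¹` -/
theorem cj_mul (D : GL (Fin 2) F) (s : S2) : (cj D s : Matrix (Fin 2) (Fin 2) F) * (D : Matrix (Fin 2) (Fin 2) F) =
    (D : Matrix (Fin 2) (Fin 2) F) * (s : Matrix (Fin 2) (Fin 2) F) := by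
  rw [coe_cj, mul_assoc, ← Units.val_mul, inv_mul_cancel, Units.val_one, mul_one]

variable [Fintype F]

theorem kill_BB {Γ : Subgroup (MulAut P2)} (h : IF (BB F) Γ) : False := by
  classical
  obtain ⟨p, hp⟩ := CharP.exists F
  have hfp : Fact p.Prime := ⟨(CharP.char_is_prime_or_zero F p).resolve_right (CharP.char_ne_zero_of_finite F p)⟩
  obtain ⟨β, hβ, hβ2, hβ3⟩ := h.ex
  obtain ⟨D, τ, hD⟩ := surj_two p β
  have hap : ∀ s : S2, β (pr s) = pr (cj D (fld τ s)) := fun s => by rw [hD]; rfl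
  have hinv : ∀ y ∈ BB F, β y ∈ BB F := fun y hy => (h.inv β hβ y).2 hy
  obtain ⟨a, ha⟩ : ∃ a, (D : Matrix (Fin 2) (Fin 2) F) 0 0 = a := ⟨_, rfl⟩
  obtain ⟨b, hb⟩ : ∃ a, (D : Matrix (Fin 2) (Fin 2) F) 0 1 = a := ⟨_, rfl⟩
  obtain ⟨c, hc⟩ : ∃ a, (D : Matrix (Fin 2) (Fin 2) F) 1 0 = a := ⟨_, rfl⟩
  obtain ⟨d, hd⟩ : ∃ a, (D : Matrix (Fin 2) (Fin 2) F) 1 1 = a := ⟨_, rfl⟩
  have hdet : a * d - b * c ≠ 0 := by
    have h1 : (D : Matrix (Fin 2) (Fin 2) F).det ≠ 0 := (Matrix.isUnit_iff_isUnit_det _).1 D.isUnit |>.ne_zero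
    rwa [det_fin_two, ha, hb, hc, hd] at h1
  -- entries
  have hent : ∀ s : S2, ((cj D s : S2) 0 0 * a + (cj D s : S2) 0 1 * c = a * s 0 0 + b * s 1 0) ∧
      ((cj D s : S2) 0 0 * b + (cj D s : S2) 0 1 * d = a * s 0 1 + b * s 1 1) ∧
      ((cj D s : S2) 1 0 * a + (cj D s : S2) 1 1 * c = c * s 0 0 + d * s 1 0) ∧
      ((cj D s : S2) 1 0 * b + (cj D s : S2) 1 1 * d = c * s 0 1 + d * s 1 1) := by
    intro s
    have h1 := cj_mul D s
    have h00 := congrFun (congrFun h1 0) 0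
    have h01 := congrFun (congrFun h1 0) 1
    have h10 := congrFun (congrFun h1 1) 0
    have h11 := congrFun (congrFun h1 1) 1
    simp only [Matrix.mul_apply, Fin.sum_univ_two, ha, hb, hc, hd] at h00 h01 h10 h11
    exact ⟨h00, h01, h10, h11⟩
  have hfu : ∀ x : F, fld τ (u x : S2) = u (τ x) := by
    intro x
    apply Subtype.ext
    ext i j
    rw [coe_fld_apply, coe_u, coe_u]
    fin_cases i <;> fin_cases j <;> simp
  -- `D` is upper triangular
  have hc0 : c = 0 := by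
    have h1 : (pr (cj D (u 1 : S2)) : P2) ∈ BB F := by
      have h2 := hinv (pr (u 1)) (mem_BB.2 (by rw [coe_u]; simp))
      rwa [hap, hfu, map_one] at h2
    rw [mem_BB] at h1
    obtain ⟨-, -, h10, h11⟩ := hent (u 1)
    have e00 : (u 1 : S2) 0 0 = 1 := by rw [coe_u]; simp
    have e01 : (u 1 : S2) 0 1 = 1 := by rw [coe_u]; simp
    have e10 : (u 1 : S2) 1 0 = 0 := by rw [coe_u]; simp
    have e11 : (u 1 : S2) 1 1 = 1 := by rw [coe_u]; simp
    rw [h1, e00, e10] at h10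
    rw [h1, e01, e11] at h11
    by_contra hc1
    have h2 : (cj D (u 1 : S2) : S2) 1 1 = 1 := by
      have h3 : ((cj D (u 1 : S2) : S2) 1 1 - 1) * c = 0 := by linear_combination h10
      rcases mul_eq_zero.1 h3 with h4 | h4
      · exact sub_eq_zero.1 h4
      · exact absurd h4 hc1
    rw [h2] at h11
    apply hc1
    linear_combination -h11
  have ha0 : a ≠ 0 := by
    rintro rfl
    apply hdet
    rw [hc0]
    ring
  have hd0 : d ≠ 0 := by
    rintro rfl
    apply hdet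
    rw [hc0]
    ring
  have hcu : ∀ y : F, cj D (u y : S2) = u (a / d * y) := by
    intro y
    obtain ⟨h00, h01, h10, h11⟩ := hent (u y)
    have e00 : (u y : S2) 0 0 = 1 := by rw [coe_u]; simp
    have e01 : (u y : S2) 0 1 = y := by rw [coe_u]; simp
    have e10 : (u y : S2) 1 0 = 0 := by rw [coe_u]; simp
    have e11 : (u y : S2) 1 1 = 1 := by rw [coe_u]; simp
    rw [e00, e10, hc0] at h00 h10
    rw [e01, e11] at h01 h11
    have f00 : (cj D (u y : S2) : S2) 0 0 = 1 := mul_right_cancel₀ ha0 (by linear_combination h00)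
    have f10 : (cj D (u y : S2) : S2) 1 0 = 0 := mul_right_cancel₀ ha0 (by linear_combination h10)
    rw [f10] at h11
    rw [f00] at h01
    have f11 : (cj D (u y : S2) : S2) 1 1 = 1 := mul_right_cancel₀ hd0 (by linear_combination h11 + y * hc0)
    have f01 : (cj D (u y : S2) : S2) 0 1 = a / d * y := by
      rw [div_mul_eq_mul_div, eq_div_iff hd0]
      linear_combination h01
    apply Subtype.ext
    ext i j
    rw [coe_u]
    fin_cases i <;> fin_cases j <;> simp [f00, f01, f10, f11]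
  have hτ : ∀ x, τ (τ x) = x := by
    have h1 : ∀ x : F, a / d * τ (a / d * τ x) = x := by
      intro x
      apply pr_u_inj
      rw [← hcu, ← hfu, ← hap, ← hcu, ← hfu, ← hap]
      have h2 : β ^ 2 = 1 := by
        have h2' := pow_orderOf_eq_one β
        rwa [hβ2] at h2'
      rw [← MulAut.mul_apply, ← sq, h2, MulAut.one_apply]
    intro x
    have h2 := h1 1
    have h3 := h1 x
    rw [map_one, mul_one] at h2
    rw [map_mul, ← mul_assoc, h2, one_mul] at h3
    exact h3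
  -- the fixed points
  have hfix : ∀ x : F, (((pr (gx x) : P2) : P2 ⧸ BB F) ∈ fixSet (BB F) β ↔ a * τ x + b = d * x) := by
    intro x
    rw [mem_fixSet hinv, hap, ← map_inv, ← map_mul, mem_BB, gx_inv_mul]
    obtain ⟨h00, -, h10, -⟩ := hent (fld τ (gx x))
    have e00 : (fld τ (gx x) : S2) 0 0 = τ x := by rw [coe_fld_apply, coe_gx]; simp
    have e10 : (fld τ (gx x) : S2) 1 0 = 1 := by rw [coe_fld_apply, coe_gx]; simp
    rw [e00, e10, hc0] at h00 h10
    constructor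
    · intro h1
      linear_combination -h00 + x * h10 - a * h1
    · intro h1
      apply mul_right_cancel₀ ha0
      linear_combination -h00 + x * h10 - h1
  -- two of them
  obtain ⟨x1, x2, hx1, hx2, hx12⟩ : ∃ x1 x2 : F, a * τ x1 + b = d * x1 ∧ a * τ x2 + b = d * x2 ∧ x1 ≠ x2 := by
    have h1 : 1 < (fixSet (BB F) β \ {((1 : P2) : P2 ⧸ BB F)}).ncard := by
      have h2 := Set.pred_ncard_le_ncard_sdiff_singleton (fixSet (BB F) β) ((1 : P2) : P2 ⧸ BB F)
      have h3 : 3 ≤ (fixSet (BB F) β).ncard := hβ3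
      omega
    obtain ⟨y, hy, z, hz, hyz⟩ := (Set.one_lt_ncard_iff (Set.toFinite _)).1 h1 |> fun ⟨y, z, hy, hz, hyz⟩ =>
      (⟨y, hy, z, hz, hyz⟩ : ∃ y, y ∈ (fixSet (BB F) β \ {((1 : P2) : P2 ⧸ BB F)}) ∧
        ∃ z, z ∈ (fixSet (BB F) β \ {((1 : P2) : P2 ⧸ BB F)}) ∧ y ≠ z)
    obtain ⟨x1, rfl⟩ := exists_gx y (fun h4 => hy.2 h4)
    obtain ⟨x2, rfl⟩ := exists_gx z (fun h4 => hz.2 h4)
    exact ⟨x1, x2, (hfix x1).1 hy.1, (hfix x2).1 hz.1, fun h4 => hyz (by rw [h4])⟩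
  have hcard : Nat.card {t : F // τ t = t} ≤ fx (BB F) β := by
    have h1 : fx (BB F) β = Nat.card (fixSet (BB F) β) := rfl
    rw [h1]
    refine Nat.card_le_card_of_injective (fun t => ⟨((pr (gx (x1 + (x1 - x2) * t.1)) : P2) : P2 ⧸ BB F),
      (hfix _).2 ?_⟩) ?_
    · rw [map_add, map_mul, map_sub, t.2]
      linear_combination hx1 + t.1 * hx1 - t.1 * hx2
    · intro t t' htt
      have h2 := gx_inj (congrArg Subtype.val htt)
      have h3 : (x1 - x2) * (t.1 - t'.1) = 0 := by linear_combination h2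
      rcases mul_eq_zero.1 h3 with h4 | h4
      · exact absurd (sub_eq_zero.1 h4) hx12
      · exact Subtype.ext (sub_eq_zero.1 h4)
  -- contradiction
  have h1 := card_fixed τ hτ
  have h2 := h.small β hβ hβ2
  have h3 : (BB F).index ≤ Nat.card F ^ 3 := by
    have h4 : (BB F).index ≤ Nat.card P2 := Nat.le_of_dvd Nat.card_pos (Subgroup.index_dvd_card _)
    have h5 : Nat.card P2 ≤ Nat.card S2 := Nat.card_le_card_of_surjective (pr : S2 → P2) pr_surjective
    have h6 := Cfsg.Agent.ClassicalGeometry.PSL2Basic.card_SL2 F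
    rw [← Nat.card_eq_fintype_card] at h6
    have h7 : Nat.card F * (Nat.card F ^ 2 - 1) ≤ Nat.card F * Nat.card F ^ 2 := Nat.mul_le_mul_left _ (Nat.sub_le _ _)
    have h8 : Nat.card F * Nat.card F ^ 2 = Nat.card F ^ 3 := by ring
    omega
  have h4 : Nat.card F ^ 3 ≤ fx (BB F) β ^ 6 := by
    calc Nat.card F ^ 3 ≤ ((Nat.card {t : F // τ t = t}) ^ 2) ^ 3 := Nat.pow_le_pow_left h1 3
      _ ≤ (fx (BB F) β ^ 2) ^ 3 := Nat.pow_le_pow_left (Nat.pow_le_pow_left hcard 2) 3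
      _ = _ := by rw [← pow_mul]
  omega

theorem kill_borel [IsSimpleGroup P2] (hna : ∃ a b : P2, a * b ≠ b * a) {p : ℕ} [Fact p.Prime] [CharP F p]
    {A : Subgroup P2} {Γ : Subgroup (MulAut P2)} (h : IF A Γ) (P : Sylow p P2) (K : Subgroup P2)
    (hK : K ≤ normalizer ((P : Subgroup P2) : Set P2)) (e : A ≃* K) : False := by
  -- `p`-elements of the normaliser
  have hPel : ∀ x ∈ normalizer ((P : Subgroup P2) : Set P2), (∃ k : ℕ, x ^ p ^ k = 1) → x ∈ (P : Subgroup P2) := by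
    rintro x hx ⟨k, hk⟩
    have hz : IsPGroup p (zpowers x) := by
      rintro ⟨y, hy⟩
      obtain ⟨j, rfl⟩ := mem_zpowers_iff.1 hy
      refine ⟨k, Subtype.ext ?_⟩
      change (x ^ j) ^ p ^ k = 1
      rw [← zpow_natCast, ← _root_.zpow_mul, mul_comm, _root_.zpow_mul, zpow_natCast, hk, _root_.one_zpow]
    have hs : IsPGroup p (zpowers x ⊔ (P : Subgroup P2) : Subgroup P2) :=
      IsPGroup.to_sup_of_normal_right' hz P.isPGroup' (by rwa [zpowers_le])
    have := P.3 hs le_sup_right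
    rw [← this]
    exact le_sup_left (b := (P : Subgroup P2)) (mem_zpowers x)
  obtain ⟨R, hRdef⟩ : ∃ R : Subgroup P2, R = (((P : Subgroup P2).subgroupOf K).comap e.toMonoidHom).map A.subtype :=
    ⟨_, rfl⟩
  have hRA : R ≤ A := by
    rw [hRdef]
    rintro _ ⟨y, -, rfl⟩
    exact y.2
  have hR2 : ∀ x ∈ A, (∃ k : ℕ, x ^ p ^ k = 1) → x ∈ R := by
    rintro x hx ⟨k, hk⟩
    rw [hRdef]
    refine ⟨⟨x, hx⟩, ?_, rfl⟩
    change (e ⟨x, hx⟩ : P2) ∈ (P : Subgroup P2)
    refine hPel _ (hK (e ⟨x, hx⟩).2) ⟨k, ?_⟩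
    have h1 : (⟨x, hx⟩ : A) ^ p ^ k = 1 := Subtype.ext hk
    have h2 : e ⟨x, hx⟩ ^ p ^ k = 1 := by rw [← map_pow, h1, map_one]
    exact congrArg Subtype.val h2
  have hR3 : ∀ x ∈ R, ∃ k : ℕ, x ^ p ^ k = 1 := by
    rw [hRdef]
    rintro _ ⟨y, hy, rfl⟩
    obtain ⟨k, hk⟩ := P.isPGroup' ⟨(e y : P2), hy⟩
    refine ⟨k, ?_⟩
    have h1 : (e y : P2) ^ p ^ k = 1 := congrArg Subtype.val hk
    have h2 : y ^ p ^ k = 1 := by
      apply e.injective
      rw [map_pow, map_one]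
      exact Subtype.ext h1
    exact congrArg Subtype.val h2
  have hRinv : ∀ σ ∈ Γ, ∀ k ∈ R, σ k ∈ R := fun σ hσ k hk => by
    obtain ⟨j, hj⟩ := hR3 k hk
    exact hR2 _ ((h.inv σ hσ k).2 (hRA hk)) ⟨j, by rw [← map_pow, hj, map_one]⟩
  by_cases hR : R = ⊥
  · -- `A` is abelian
    refine not_abel hna h fun a ha b hb => ?_
    obtain ⟨k, hk⟩ := Cfsg.Agent.H947.Sy.commutator_mem P (hK (e ⟨a, ha⟩).2) (hK (e ⟨b, hb⟩).2)
    have h1 : a * b * a⁻¹ * b⁻¹ ∈ R := by
      refine hR2 _ (A.mul_mem (A.mul_mem (A.mul_mem ha hb) (A.inv_mem ha)) (A.inv_mem hb)) ⟨k, ?_⟩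
      have h2 : ((⟨a, ha⟩ : A) * ⟨b, hb⟩ * (⟨a, ha⟩ : A)⁻¹ * (⟨b, hb⟩ : A)⁻¹) ^ p ^ k = 1 := by
        apply e.injective
        rw [map_pow, map_one, map_mul, map_mul, map_mul, map_inv, map_inv]
        exact Subtype.ext hk
      exact congrArg Subtype.val h2
    rw [hR, mem_bot] at h1
    have h2 : a * b * a⁻¹ = b := mul_inv_eq_one.1 h1
    exact mul_inv_eq_iff_eq_mul.1 h2 |>.trans rfl
  · have hRp : IsPGroup p R := by
      rintro ⟨x, hx⟩
      obtain ⟨k, hk⟩ := hR3 x hx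
      exact ⟨k, Subtype.ext hk⟩
    obtain ⟨g, h1, h2⟩ := Cfsg.Agent.H947.Sy.exists_borel hR hRp
    have hnorm : ∀ x : P2, (∀ k ∈ R, x * k * x⁻¹ ∈ R) → x ∈ A := fun x hx =>
      Cfsg.Agent.H680.Fxy.IF.norm h hRA hRinv hR hx
    have hA : ∀ x ∈ A, ∃ b ∈ borel F, x = pr (g * b * g⁻¹) := by
      intro x hx
      refine h2 x fun a ha => ?_
      obtain ⟨j, hj⟩ := hR3 a ha
      refine hR2 _ (A.mul_mem (A.mul_mem hx (hRA ha)) (A.inv_mem hx)) ⟨j, ?_⟩
      rw [conj_pow, hj, mul_one, mul_inv_cancel]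
    have hU : ∀ c : F, (pr (g * u c * g⁻¹) : P2) ∈ R := by
      intro c
      refine hR2 _ (hnorm _ fun k hk => ?_) ⟨1, ?_⟩
      · obtain ⟨c', rfl⟩ := h1 k hk
        have h3 : (pr (g * u c * g⁻¹) : P2) * pr (g * u c' * g⁻¹) * (pr (g * u c * g⁻¹))⁻¹ = pr (g * u c' * g⁻¹) := by
          rw [← map_mul, ← map_inv, ← map_mul]
          congr 1
          have h4 : g * u c * g⁻¹ * (g * u c' * g⁻¹) * (g * u c * g⁻¹)⁻¹ = g * (u c * u c' * (u c)⁻¹) * g⁻¹ := by group
          rw [h4, ← u_add, add_comm, u_add, mul_inv_cancel_right]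
        rw [h3]
        exact hk
      · rw [← map_pow, pow_one, conj_pow, Cfsg.Agent.H947.Sy.u_pow, mul_one, mul_inv_cancel, map_one]
    have hB : ∀ b ∈ borel F, (pr (g * b * g⁻¹) : P2) ∈ A := by
      intro b hb
      refine hnorm _ fun k hk => ?_
      obtain ⟨c', rfl⟩ := h1 k hk
      have h3 : b * u c' * b⁻¹ ∈ upperUnipSL F := conj_mem_upperUnipSL (mem_borel_iff.1 hb) (u_mem_upperUnipSL c')
      have h4 : (pr (g * b * g⁻¹) : P2) * pr (g * u c' * g⁻¹) * (pr (g * b * g⁻¹))⁻¹ =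
          pr (g * u ((b * u c' * b⁻¹ : S2) 0 1) * g⁻¹) := by
        rw [← map_mul, ← map_inv, ← map_mul, ← eq_u_of_mem_upperUnipSL h3]
        congr 1
        group
      rw [h4]
      exact hU _
    have hmap : A.map (MulAut.conj ((pr g : P2)⁻¹)).toMonoidHom = BB F := by
      ext y
      obtain ⟨s, rfl⟩ := pr_surjective y
      rw [mem_map_e]
      have h3 : (MulAut.conj ((pr g : P2)⁻¹)).symm (pr s) = pr (g * s * g⁻¹) := by
        rw [MulAut.conj_symm_apply, inv_inv, map_mul, map_mul, map_inv]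
      rw [h3]
      constructor
      · intro h4
        obtain ⟨b, hb, h5⟩ := hA _ h4
        refine ⟨b, hb, ?_⟩
        rw [map_mul, map_mul, map_mul, map_mul] at h5
        exact (mul_left_cancel (mul_right_cancel h5)).symm
      · intro h4
        exact hB _ (mem_borel_iff.2 (mem_BB.1 h4))
    have hIF := h.map (MulAut.conj ((pr g : P2)⁻¹))
    rw [hmap] at hIF
    exact kill_BB hIF

end Borel

end Cfsg.Agent.H800.IFx
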